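import Groth.Prelude.Def_SpSeq
import Groth.Agent.Lib.KInj.Resolution
import Groth.Agent.Lib.HoCat.Coproduct
import Mathlib.Algebra.Homology.DerivedCategory.KInjective
import Mathlib.CategoryTheory.Abelian.GrothendieckAxioms.Colim
import Mathlib.CategoryTheory.Abelian.GrothendieckCategory.Basic
import Mathlib.CategoryTheory.Functor.OfSequence

/-! Inverse systems in the derived category are represented by filtered complexes. -/

set_option autoImplicit false
universe w v u

open CategoryTheory CategoryTheory.Limits ZeroObject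
open HomologicalComplex
open CochainComplex (mappingCone)
open CochainComplex.HomComplex

namespace GrothLib.FilRep19

variable {A : Type u} [Category.{v} A] [Abelian A]

/-- The cone of the identity. -/
noncomputable abbrev C (J : CochainComplex A ℤ) : CochainComplex A ℤ := mappingCone (𝟙 J)

instance mono_inr {F G : CochainComplex A ℤ} (φ : F ⟶ G) : Mono (mappingCone.inr φ) :=
  @HomologicalComplex.mono_of_mono_f _ _ _ _ _ _ _ (mappingCone.inr φ) fun k =>
    SplitMono.mono ⟨(mappingCone.snd φ).v k k (add_zero k), mappingCone.inr_f_snd_v _ _⟩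

theorem acyclic_C (J : CochainComplex A ℤ) (n : ℤ) : (C J).ExactAt n := by
  rw [exactAt_iff_isZero_homology, IsZero.iff_id_eq_zero]
  have h := (mappingCone.homotopyToZeroOfId J).homologyMap_eq n
  rwa [homologyMap_id, homologyMap_zero] at h

theorem exists_desc {J L : CochainComplex A ℤ} (δ' : J ⟶ L) (h : Homotopy δ' 0) :
    ∃ γ : C J ⟶ L, mappingCone.inr (𝟙 J) ≫ γ = δ' := by
  obtain ⟨z, hz⟩ := Cochain.equivHomotopy _ _ h
  refine ⟨mappingCone.desc (𝟙 J) z δ' ?_, mappingCone.inr_desc _ _ _ _⟩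
  rw [Category.id_comp, hz]
  simp

variable [HasDerivedCategory.{w} A]

theorem isZero_Q_of_acyclic (K : CochainComplex A ℤ) (h : ∀ n, K.ExactAt n) :
    IsZero (DerivedCategory.Q.obj K) := by
  have : QuasiIso (0 : K ⟶ 0) := ⟨fun n => (quasiIsoAt_iff_exactAt' _ _
    (ShortComplex.exact_of_isZero_X₂ _ ((eval A (ComplexShape.up ℤ) n).map_isZero (isZero_zero _)))).2 (h n)⟩
  exact IsZero.of_iso (DerivedCategory.Q.map_isZero (isZero_zero _)) (asIso (DerivedCategory.Q.map (0 : K ⟶ 0)))

theorem isIso_Q_map_inl (K L : CochainComplex A ℤ) (h : ∀ n, L.ExactAt n) :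
    IsIso (DerivedCategory.Q.map (biprod.inl : K ⟶ K ⊞ L)) := by
  refine ⟨⟨DerivedCategory.Q.map biprod.fst, ?_, ?_⟩⟩
  · rw [← Functor.map_comp, biprod.inl_fst, CategoryTheory.Functor.map_id]
  · rw [← Functor.map_comp, ← CategoryTheory.Functor.map_id]
    conv_rhs => rw [← biprod.total, Functor.map_add,
      Functor.map_comp DerivedCategory.Q biprod.snd biprod.inr,
      (isZero_Q_of_acyclic L h).eq_of_src (DerivedCategory.Q.map biprod.inr) 0, comp_zero, add_zero]

section

variable [IsGrothendieckAbelian.{v} A]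
variable (J : ℤ → CochainComplex A ℤ) (τ : ∀ i, J (i + 1) ⟶ J i)

/-- The index set. -/
abbrev Above (i : ℤ) : Type v := ULift.{v} {j : ℤ // i < j}

/-- The contractible part. -/
noncomputable abbrev R (i : ℤ) : CochainComplex A ℤ := ∐ fun x : Above.{v} i => C (J x.down.1)

theorem exactAt_R (i n : ℤ) : (R J i).ExactAt n := HoCat.exactAt_sigma _ n fun x => acyclic_C _ n

/-- The enlarged terms. -/
noncomputable abbrev P (i : ℤ) : CochainComplex A ℤ := J i ⊞ R J i

/-- The inclusion of a summand. -/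
noncomputable abbrev ιR (i j : ℤ) (h : i < j) : C (J j) ⟶ R J i :=
  Sigma.ι (fun x : Above.{v} i => C (J x.down.1)) ⟨⟨j, h⟩⟩

/-- The inclusion between the contractible parts. -/
noncomputable def incR (i : ℤ) : R J (i + 1) ⟶ R J i :=
  Sigma.desc fun x => ιR J i x.down.1 (by have := x.down.2; omega)

/-- The projection onto the first summand. -/
noncomputable def first (i : ℤ) : R J i ⟶ C (J (i + 1)) :=
  Sigma.desc fun x => if h : x.down.1 = i + 1 then eqToHom (by rw [h]) else 0

/-- The projection onto the other summands. -/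
noncomputable def rest (i : ℤ) : R J i ⟶ R J (i + 1) :=
  Sigma.desc fun x => if h : i + 1 < x.down.1 then ιR J (i + 1) x.down.1 h else 0

theorem incR_first (i : ℤ) : incR J i ≫ first J i = 0 := by
  refine Sigma.hom_ext _ _ fun x => ?_
  have := x.down.2
  simp [incR, first, show ¬ x.down.1 = i + 1 by omega]

theorem incR_rest (i : ℤ) : incR J i ≫ rest J i = 𝟙 _ := by
  refine Sigma.hom_ext _ _ fun x => ?_
  have := x.down.2
  simp only [incR, rest, Sigma.ι_desc_assoc, Sigma.ι_desc, dif_pos this, Category.comp_id]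

theorem ιR_first (i : ℤ) : ιR J i (i + 1) (by omega) ≫ first J i = 𝟙 _ := by simp [first]

/-- The inclusion. -/
noncomputable def inc (i : ℤ) : P J (i + 1) ⟶ P J i :=
  biprod.desc (biprod.lift (τ i) (mappingCone.inr (𝟙 (J (i + 1))) ≫ ιR J i (i + 1) (by omega)))
    (incR J i ≫ biprod.inr)

instance mono_inc (i : ℤ) : Mono (inc J τ i) := Preadditive.mono_of_cancel_zero _ fun {T} x hx => by
  have e : inc J τ i ≫ biprod.snd ≫ first J i = biprod.fst ≫ mappingCone.inr (𝟙 (J (i + 1))) := by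
    apply biprod.hom_ext'
    · simp [inc, ιR_first]
    · simp [inc, incR_first]
  have h1 : x ≫ biprod.fst = 0 := by
    rw [← cancel_mono (mappingCone.inr (𝟙 (J (i + 1)))), zero_comp, Category.assoc, ← e, reassoc_of% hx, zero_comp]
  have h2 : x = (x ≫ biprod.snd) ≫ biprod.inr := by
    apply biprod.hom_ext <;> simp [h1]
  have h3 : x ≫ biprod.snd = 0 := by
    have := congrArg (fun z => z ≫ biprod.snd ≫ rest J i) hx
    rw [h2] at this
    simpa [inc, incR_rest] using this
  rw [h2, h3, zero_comp]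

theorem inl_inc (i : ℤ) :
    DerivedCategory.Q.map (biprod.inl : J (i + 1) ⟶ P J (i + 1)) ≫ DerivedCategory.Q.map (inc J τ i) =
      DerivedCategory.Q.map (τ i) ≫ DerivedCategory.Q.map (biprod.inl : J i ⟶ P J i) := by
  rw [← Functor.map_comp, ← Functor.map_comp]
  have e : biprod.inl ≫ inc J τ i = τ i ≫ biprod.inl +
      mappingCone.inr (𝟙 (J (i + 1))) ≫ ιR J i (i + 1) (by omega) ≫ biprod.inr := by
    apply biprod.hom_ext <;> simp [inc]
  rw [e, Functor.map_add, Functor.map_comp DerivedCategory.Q (mappingCone.inr _),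
    (isZero_Q_of_acyclic _ (acyclic_C _)).eq_of_tgt
      (DerivedCategory.Q.map (mappingCone.inr (𝟙 (J (i + 1))))) 0, zero_comp, add_zero]

/-- The sequence going down. -/
noncomputable def seq : ℕ ⥤ CochainComplex A ℤ :=
  Functor.ofSequence (X := fun n => P J (Int.negSucc n)) fun n => inc J τ (Int.negSucc (n + 1))

/-- The ambient complex of the enlarged terms. -/
noncomputable abbrev X : CochainComplex A ℤ := colimit (seq J τ)

/-- The embedding in the ambient complex for nonnegative index. -/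
noncomputable def φNat : ∀ k : ℕ, P J (k : ℤ) ⟶ X J τ
  | 0 => inc J τ (Int.negSucc 0) ≫ colimit.ι (seq J τ) 0
  | k + 1 => inc J τ (k : ℤ) ≫ φNat k

/-- The embedding in the ambient complex. -/
noncomputable def φ : ∀ i : ℤ, P J i ⟶ X J τ
  | Int.ofNat k => φNat J τ k
  | Int.negSucc n => colimit.ι (seq J τ) n

theorem inc_φ : ∀ i : ℤ, inc J τ i ≫ φ J τ i = φ J τ (i + 1)
  | Int.ofNat _ => rfl
  | Int.negSucc 0 => rfl
  | Int.negSucc (n + 1) => by
    have h := colimit.w (seq J τ) (homOfLE (Nat.le_succ n))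
    rw [show (seq J τ).map (homOfLE (Nat.le_succ n)) = inc J τ (Int.negSucc (n + 1)) from
      Functor.ofSequence_map_homOfLE_succ _ n] at h
    exact h

theorem mono_φ : ∀ i : ℤ, Mono (φ J τ i) := by
  have hseq : ∀ n : ℕ, Mono (colimit.ι (seq J τ) n) := fun n => by
    have hsucc : ∀ n : ℕ, Mono ((seq J τ).map (homOfLE (Nat.le_succ n))) := fun n => by
      rw [show (seq J τ).map (homOfLE (Nat.le_succ n)) = inc J τ (Int.negSucc (n + 1)) from
        Functor.ofSequence_map_homOfLE_succ _ n]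
      exact mono_inc J τ _
    have hmap : ∀ (a b : ℕ) (f : a ⟶ b), Mono ((seq J τ).map f) := by
      intro a b f
      obtain ⟨k, rfl⟩ := Nat.exists_eq_add_of_le (leOfHom f)
      induction k with
      | zero => rw [show f = 𝟙 a from Subsingleton.elim _ _, CategoryTheory.Functor.map_id]; infer_instance
      | succ k ih =>
        rw [show f = homOfLE (Nat.le_add_right a k) ≫ homOfLE (Nat.le_succ (a + k)) from Subsingleton.elim _ _,
          Functor.map_comp]
        have := ih (homOfLE (Nat.le_add_right a k))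
        have := hsucc (a + k)
        exact mono_comp _ _
    refine @HomologicalComplex.mono_of_mono_f _ _ _ _ _ _ _ (colimit.ι (seq J τ) n) fun q => ?_
    have : ∀ (a b : ℕ) (f : a ⟶ b), Mono ((seq J τ ⋙ eval A (ComplexShape.up ℤ) q).map f) :=
      fun a b f => by have := hmap a b f; exact inferInstanceAs (Mono ((eval A _ q).map ((seq J τ).map f)))
    have : HasFilteredColimitsOfSize.{0, 0} A := hasFilteredColimitsOfSize_shrink.{0, 0, v, v}
    have : AB5OfSize.{0, 0} A := AB5OfSize_shrink.{0, 0, v, v} A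
    exact IsColimit.mono_ι_app_of_isFiltered
      (isColimitOfPreserves (eval A (ComplexShape.up ℤ) q) (colimit.isColimit (seq J τ))) n
  have hNat : ∀ k : ℕ, Mono (φNat J τ k) := fun k => by
    induction k with
    | zero => exact @mono_comp _ _ _ _ _ _ (mono_inc J τ _) _ (hseq 0)
    | succ k ih => exact @mono_comp _ _ _ _ _ _ (mono_inc J τ _) _ ih
  rintro (k | n)
  · exact hNat k
  · exact hseq n

variable {J0 : CochainComplex A ℤ} (α : ∀ i, J i ⟶ J0)

theorem exists_filtered (h : ∀ i, Nonempty (Homotopy (τ i ≫ α i) (α (i + 1)))) :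
    ∃ (K : SpSeq.FilCx A) (e : DerivedCategory.Q.obj K.obj ≅ DerivedCategory.Q.obj J0)
      (ei : ∀ i : ℤ, DerivedCategory.Q.obj (K.step i) ≅ DerivedCategory.Q.obj (J i)),
      (∀ i : ℤ, DerivedCategory.Q.map (K.fil i).arrow ≫ e.hom = (ei i).hom ≫ DerivedCategory.Q.map (α i)) ∧
      (∀ i : ℤ, DerivedCategory.Q.map (K.stepLE (le_of_lt (Int.lt_succ_self i))) ≫ (ei i).hom =
        (ei (i + 1)).hom ≫ DerivedCategory.Q.map (τ i)) := by
  have hγ : ∀ j i : ℤ, i + 1 = j → ∃ γ : C (J j) ⟶ J0, ∀ (e : j = i + 1),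
      eqToHom (by rw [e]) ≫ mappingCone.inr (𝟙 (J j)) ≫ γ = α (i + 1) - τ i ≫ α i := by
    rintro _ i rfl
    obtain ⟨γ, hγ⟩ := exists_desc (α (i + 1) - τ i ≫ α i) (Homotopy.equivSubZero (h i).some.symm)
    exact ⟨γ, fun e => by rw [eqToHom_refl, Category.id_comp, hγ]⟩
  choose γ hγ using fun j => hγ j (j - 1) (by omega)
  have hγ' : ∀ i, mappingCone.inr (𝟙 (J (i + 1))) ≫ γ (i + 1) = α (i + 1) - τ i ≫ α i := by
    intro i
    have key : ∀ k (hk : k = i) (e : i + 1 = k + 1),
        eqToHom (congrArg J e.symm) ≫ mappingCone.inr (𝟙 (J (i + 1))) ≫ γ (i + 1) = α (k + 1) - τ k ≫ α k →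
        mappingCone.inr (𝟙 (J (i + 1))) ≫ γ (i + 1) = α (i + 1) - τ i ≫ α i := by
      rintro _ rfl e he
      simpa using he
    exact key (i + 1 - 1) (by omega) (by omega) (hγ (i + 1) (by omega))
  let α' : ∀ i, P J i ⟶ J0 := fun i => biprod.desc (α i) (Sigma.desc fun x => γ x.down.1)
  have hα' : ∀ i, inc J τ i ≫ α' i = α' (i + 1) := by
    intro i
    apply biprod.hom_ext'
    · simp [inc, α', hγ']
    · refine (biprod.inr_desc_assoc _ _ _).trans ?_
      simp only [Category.assoc, α', biprod.inr_desc]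
      refine Sigma.hom_ext _ _ fun x => ?_
      simp [incR]
  let Z : CochainComplex A ℤ := J0 ⊞ C (X J τ)
  let μ : ∀ i, P J i ⟶ Z := fun i => biprod.lift (α' i) (φ J τ i ≫ mappingCone.inr (𝟙 (X J τ)))
  have hμ : ∀ i, Mono (μ i) := fun i => by
    have := mono_φ J τ i
    have : Mono (μ i ≫ biprod.snd) := by
      rw [biprod.lift_snd]
      exact mono_comp _ _
    exact mono_of_mono (μ i) biprod.snd
  have hincμ : ∀ i, inc J τ i ≫ μ i = μ (i + 1) := by
    intro i
    apply biprod.hom_ext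
    · simpa [μ] using hα' i
    · simp only [μ, Category.assoc, biprod.lift_snd, ← inc_φ J τ i]
  let fil : ℤ → Subobject Z := fun i => @Subobject.mk _ _ _ _ (μ i) (hμ i)
  have hstep : ∀ i, fil (i + 1) ≤ fil i := fun i =>
    @Subobject.mk_le_mk_of_comm _ _ _ _ _ _ _ (hμ (i + 1)) (hμ i) (inc J τ i) (hincμ i)
  let K : SpSeq.FilCx A := ⟨Z, fil, antitone_int_of_succ_le hstep⟩
  let qi : ∀ i : ℤ, K.step i ≅ P J i := fun i => @Subobject.underlyingIso _ _ _ _ (μ i) (hμ i)
  have hqi : ∀ i, (qi i).hom ≫ μ i = (K.fil i).arrow := fun i =>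
    @Subobject.underlyingIso_hom_comp_eq_mk _ _ _ _ (μ i) (hμ i)
  have he : IsIso (DerivedCategory.Q.map (biprod.inl : J0 ⟶ Z)) := isIso_Q_map_inl _ _ (acyclic_C _)
  have hei : ∀ i, IsIso (DerivedCategory.Q.map (biprod.inl : J i ⟶ P J i)) := fun i =>
    isIso_Q_map_inl _ _ (exactAt_R J i)
  have hfst : inv (DerivedCategory.Q.map (biprod.inl : J0 ⟶ Z)) = DerivedCategory.Q.map biprod.fst :=
    IsIso.inv_eq_of_hom_inv_id (by rw [← Functor.map_comp, biprod.inl_fst, CategoryTheory.Functor.map_id])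
  let ei : ∀ i, DerivedCategory.Q.obj (K.step i) ≅ DerivedCategory.Q.obj (J i) := fun i =>
    DerivedCategory.Q.mapIso (qi i) ≪≫ (@asIso _ _ _ _ _ (hei i)).symm
  refine ⟨K, (@asIso _ _ _ _ _ he).symm, ei, fun i => ?_, fun i => ?_⟩
  · have := hei i
    change DerivedCategory.Q.map (K.fil i).arrow ≫ inv (DerivedCategory.Q.map (biprod.inl : J0 ⟶ Z)) = _
    simp only [ei, Iso.trans_hom, Functor.mapIso_hom, Iso.symm_hom, asIso_inv]
    rw [hfst, ← hqi, ← Functor.map_comp, Category.assoc, Category.assoc, Functor.map_comp]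
    congr 1
    rw [eq_comm, IsIso.inv_comp_eq, ← Functor.map_comp]
    congr 1
    simp [μ, α']
  · have := hei i
    have := hei (i + 1)
    have := hμ i
    simp only [ei, Iso.trans_hom, Functor.mapIso_hom, Iso.symm_hom, asIso_inv, Category.assoc]
    let st : K.step (i + 1) ⟶ K.step i := K.stepLE (le_of_lt (Int.lt_succ_self i))
    have e : st ≫ (qi i).hom = (qi (i + 1)).hom ≫ inc J τ i := by
      rw [← cancel_mono (μ i), Category.assoc, Category.assoc, hqi, hincμ, hqi]
      exact Subobject.ofLE_arrow _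
    change DerivedCategory.Q.map st ≫ DerivedCategory.Q.map (qi i).hom ≫ _ = _
    rw [← Category.assoc, ← Functor.map_comp, e, Functor.map_comp, Category.assoc]
    congr 1
    rw [IsIso.eq_inv_comp, ← Category.assoc, inl_inc, Category.assoc, IsIso.hom_inv_id, Category.comp_id]

end

section Lift

open DerivedCategory

theorem exists_map {K L : CochainComplex A ℤ} [L.IsKInjective] (f : Q.obj K ⟶ Q.obj L) :
    ∃ g : K ⟶ L, Q.map g = f := by
  obtain ⟨g, hg⟩ := (CochainComplex.IsKInjective.Qh_map_bijective _ L).surjective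
    ((quotientCompQhIso A).hom.app K ≫ f ≫ (quotientCompQhIso A).inv.app L)
  obtain ⟨g, rfl⟩ := (HomotopyCategory.quotient A (ComplexShape.up ℤ)).map_surjective g
  refine ⟨g, ?_⟩
  rw [← cancel_epi ((quotientCompQhIso A).hom.app K), ← cancel_mono ((quotientCompQhIso A).inv.app L),
    Category.assoc, Category.assoc, ← hg, ← (quotientCompQhIso A).hom.naturality_assoc g]
  simp

theorem homotopy_of_Q_map_eq {K L : CochainComplex A ℤ} [L.IsKInjective] {f g : K ⟶ L}
    (h : Q.map f = Q.map g) : Nonempty (Homotopy f g) := by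
  refine ⟨HomotopyCategory.homotopyOfEq _ _ ((CochainComplex.IsKInjective.Qh_map_bijective _ L).injective ?_)⟩
  change ((HomotopyCategory.quotient _ _) ⋙ Qh).map f = ((HomotopyCategory.quotient _ _) ⋙ Qh).map g
  rw [← cancel_mono ((quotientCompQhIso A).hom.app L), (quotientCompQhIso A).hom.naturality,
    (quotientCompQhIso A).hom.naturality, h]

theorem exists_rep [IsGrothendieckAbelian.{v} A] (E : DerivedCategory A) :
    ∃ J : CochainComplex A ℤ, J.IsKInjective ∧ Nonempty (Q.obj J ≅ E) := by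
  obtain ⟨I, i, hi, hI, -⟩ := GrothLib.KInj.exists_kInjective_resolution A (Q.objPreimage E)
  exact ⟨I, hI, ⟨(asIso (Q.map i)).symm ≪≫ Q.objObjPreimageIso E⟩⟩

theorem exists_filtered_of_system [IsGrothendieckAbelian.{v} A]
    (E : DerivedCategory A) (Es : ℤ → DerivedCategory A) (t : ∀ i : ℤ, Es (i + 1) ⟶ Es i)
    (a : ∀ i : ℤ, Es i ⟶ E) (hat : ∀ i : ℤ, t i ≫ a i = a (i + 1)) :
    ∃ (K : SpSeq.FilCx A) (e : DerivedCategory.Q.obj K.obj ≅ E)
      (ei : ∀ i : ℤ, DerivedCategory.Q.obj (K.step i) ≅ Es i),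
      (∀ i : ℤ, DerivedCategory.Q.map (K.fil i).arrow ≫ e.hom = (ei i).hom ≫ a i) ∧
      (∀ i : ℤ, DerivedCategory.Q.map (K.stepLE (le_of_lt (Int.lt_succ_self i))) ≫ (ei i).hom =
        (ei (i + 1)).hom ≫ t i) := by
  obtain ⟨J0, hJ0, ⟨u⟩⟩ := exists_rep E
  choose J hJ u' using fun i => exists_rep (Es i)
  let ui := fun i => (u' i).some
  choose τ hτ using fun i => exists_map (L := J i) ((ui (i + 1)).hom ≫ t i ≫ (ui i).inv)
  choose α hα using fun i => exists_map (L := J0) ((ui i).hom ≫ a i ≫ u.inv)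
  have hh : ∀ i, Nonempty (Homotopy (τ i ≫ α i) (α (i + 1))) := fun i => homotopy_of_Q_map_eq (by
    rw [Functor.map_comp, hτ, hα, hα]
    simp [reassoc_of% hat i])
  obtain ⟨K, e, ei, h1, h2⟩ := exists_filtered J τ α hh
  refine ⟨K, e ≪≫ u, fun i => ei i ≪≫ ui i, fun i => ?_, fun i => ?_⟩
  · simp only [Iso.trans_hom, Category.assoc]
    rw [reassoc_of% h1 i, hα]
    simp
  · have h := (congrArg (· ≫ (ui i).hom) (h2 i))
    rw [hτ] at h
    refine (Category.assoc _ _ _).symm.trans (h.trans ?_)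
    change ((ei (i + 1)).hom ≫ (ui (i + 1)).hom ≫ t i ≫ (ui i).inv) ≫ (ui i).hom =
      ((ei (i + 1)).hom ≫ (ui (i + 1)).hom) ≫ t i
    simp only [Category.assoc, Iso.inv_hom_id, Category.comp_id]

end Lift

end GrothLib.FilRep19
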